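import Groth.Agent.Etrest.RDer5

/-!
# The abstract derived base change morphism

Generic form of `EtBC.bcUnit`, `EtBC.bcAdj`, `EtBC.bcMap` for additive functors between abelian categories
with K-injective resolutions, and its comparison with `RDer4.bcD`.

* `TRD G`: the total right derived functor of `Kh G` as in the prelude (`DCoh.RpushEt`).
* `uR G K : Q (G K) ⟶ TRD G (Q K)`.
* `bcUnit α`, `bcAdj α`, `bcMap α adj K` for `α : G ⟶ E ⋙ G₂ ⋙ R`, `adj : L.mapDerivedCategory ⊣ TRD R`.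
* `exists_factor`: `bcMap α adj K = θ.app K ≫ (bcD bc).app K ≫ (TRIso G₂).inv` with `θ` a natural isomorphism, if
  `α` is the transpose of `bc` under an adjunction `L ⊣ R`.
-/

set_option autoImplicit false
universe w w' w'' w''' v v' v'' v''' u u' u'' u'''
open CategoryTheory CategoryTheory.Limits

set_option linter.unusedSectionVars false

noncomputable section
namespace Groth.Agent.Etbc.H180.BcAbs
open Groth.Agent.Etrest.RDer1 Groth.Agent.Etrest.RDer2 Groth.Agent.Etrest.RDer3 Groth.Agent.Etrest.RDer4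
  Groth.Agent.Etrest.RDer5

section TRD

variable {A : Type u} [Category.{v} A] [Abelian A] [HasDerivedCategory.{w} A]
  {B : Type u'} [Category.{v'} B] [Abelian B] [HasDerivedCategory.{w'} B] (G : A ⥤ B) [G.Additive]

/-- Existence of the total right derived functor. -/
abbrev HasTRD : Prop := (Kh G).HasRightDerivedFunctor (HomotopyCategory.quasiIso A (.up ℤ))

/-- The total right derived functor. -/
abbrev TRD [HasTRD G] : DerivedCategory A ⥤ DerivedCategory B :=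
  (Kh G).totalRightDerived DerivedCategory.Qh (HomotopyCategory.quasiIso A (.up ℤ))

/-- Its unit. -/
abbrev uTRD [HasTRD G] : Kh G ⟶ DerivedCategory.Qh ⋙ TRD G :=
  (Kh G).totalRightDerivedUnit DerivedCategory.Qh (HomotopyCategory.quasiIso A (.up ℤ))

/-- Its unit on complexes. -/
def uR [HasTRD G] (K : CochainComplex A ℤ) :
    DerivedCategory.Q.obj ((G.mapHomologicalComplex (.up ℤ)).obj K) ⟶ (TRD G).obj (DerivedCategory.Q.obj K) :=
  (DerivedCategory.quotientCompQhIso B).inv.app ((G.mapHomologicalComplex (.up ℤ)).obj K) ≫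
      (uTRD G).app ((HomotopyCategory.quotient A (.up ℤ)).obj K) ≫
      (TRD G).map ((DerivedCategory.quotientCompQhIso A).hom.app K)

theorem nat_aux {D : Type*} [Category* D] {q0 q1 h0 h1 t0 t1 r0 r1 : D} (g : q0 ⟶ q1) (i0 : q0 ⟶ h0)
    (i1 : q1 ⟶ h1) (gh : h0 ⟶ h1) (e1 : g ≫ i1 = i0 ≫ gh) (u0 : h0 ⟶ t0) (u1 : h1 ⟶ t1) (th : t0 ⟶ t1)
    (e2 : gh ≫ u1 = u0 ≫ th) (j0 : t0 ⟶ r0) (j1 : t1 ⟶ r1) (rr : r0 ⟶ r1) (e3 : th ≫ j1 = j0 ≫ rr) :
    g ≫ i1 ≫ u1 ≫ j1 = (i0 ≫ u0 ≫ j0) ≫ rr := by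
  rw [reassoc_of% e1, reassoc_of% e2, e3, Category.assoc, Category.assoc]

theorem uR_naturality [HasTRD G] {K L : CochainComplex A ℤ} (φ : K ⟶ L) :
    DerivedCategory.Q.map ((G.mapHomologicalComplex (.up ℤ)).map φ) ≫ uR G L =
      uR G K ≫ (TRD G).map (DerivedCategory.Q.map φ) := by
  refine nat_aux _ _ _ (DerivedCategory.Qh.map ((HomotopyCategory.quotient B (.up ℤ)).map
      ((G.mapHomologicalComplex (.up ℤ)).map φ)))
    ((DerivedCategory.quotientCompQhIso B).inv.naturality _) _ _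
    ((TRD G).map (DerivedCategory.Qh.map ((HomotopyCategory.quotient A (.up ℤ)).map φ)))
    ((uTRD G).naturality ((HomotopyCategory.quotient A (.up ℤ)).map φ)) _ _ _ ?_
  rw [← Functor.map_comp, ← Functor.map_comp]
  exact congrArg (TRD G).map ((DerivedCategory.quotientCompQhIso A).hom.naturality φ)

theorem triso_aux {D : Type*} [Category* D] {q h t r s p : D} (i : q ⟶ h) (u : h ⟶ t) (j : t ⟶ r)
    (t' : r ⟶ s) (tt : t ⟶ p) (k : p ⟶ s) (e : j ≫ t' = tt ≫ k) (v : h ⟶ p) (hv : v = u ≫ tt) :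
    (i ≫ u ≫ j) ≫ t' = i ≫ v ≫ k := by
  rw [hv, Category.assoc, Category.assoc, e, Category.assoc]

theorem uR_TRIso [HasKInj A] [HasTRD G] (K : CochainComplex A ℤ) :
    uR G K ≫ (TRIso G).hom.app (DerivedCategory.Q.obj K) = (unitQ G).app K := by
  rw [unitQ_app]
  exact triso_aux _ _ _ _ ((TRIso G).hom.app (DerivedCategory.Qh.obj
    ((HomotopyCategory.quotient A (.up ℤ)).obj K))) _
    ((TRIso G).hom.naturality ((DerivedCategory.quotientCompQhIso A).hom.app K)) _ rfl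

theorem isIso_uR_of_isKInjective [HasKInj A] [HasTRD G] (I : CochainComplex A ℤ) (hI : I.IsKInjective) :
    IsIso (uR G I) := by
  have h1 := isIso_unitQ_of_isKInjective G I hI
  rw [← uR_TRIso] at h1
  exact IsIso.of_isIso_comp_right _ ((TRIso G).hom.app (DerivedCategory.Q.obj I))

/-- Two natural transformations out of `TRD G` agree if they agree after `uR`. -/
theorem hom_ext_uR [HasKInj A] [HasTRD G] {H : Type*} [Category* H] {F : DerivedCategory B ⥤ H}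
    {T : DerivedCategory A ⥤ H}
    {γ₁ γ₂ : TRD G ⋙ F ⟶ T}
    (h : ∀ K : CochainComplex A ℤ, F.map (uR G K) ≫ γ₁.app (DerivedCategory.Q.obj K) =
      F.map (uR G K) ≫ γ₂.app (DerivedCategory.Q.obj K)) : γ₁ = γ₂ := by
  ext X
  obtain ⟨K, ⟨e⟩⟩ : ∃ K : CochainComplex A ℤ, Nonempty (DerivedCategory.Q.obj K ≅ X) :=
      ⟨_, ⟨DerivedCategory.Q.objObjPreimageIso X⟩⟩
  obtain ⟨I, f, hI, hf⟩ := HasKInj.out K
  let e' : DerivedCategory.Q.obj I ≅ X := (asIso (DerivedCategory.Q.map f)).symm ≪≫ e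
  have h1 := isIso_uR_of_isKInjective G I hI
  have h2 := h I
  rw [cancel_epi] at h2
  rw [← cancel_epi ((TRD G ⋙ F).map e'.hom), γ₁.naturality, γ₂.naturality, h2]

/-- Two natural transformations out of `TRD G` agree if they agree after `uR`. -/
theorem hom_ext_uR' [HasKInj A] [HasTRD G] {T : DerivedCategory A ⥤ DerivedCategory B}
    {γ₁ γ₂ : TRD G ⟶ T}
    (h : ∀ K : CochainComplex A ℤ, uR G K ≫ γ₁.app (DerivedCategory.Q.obj K) =
      uR G K ≫ γ₂.app (DerivedCategory.Q.obj K)) : γ₁ = γ₂ := by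
  ext X
  obtain ⟨K, ⟨e⟩⟩ : ∃ K : CochainComplex A ℤ, Nonempty (DerivedCategory.Q.obj K ≅ X) :=
      ⟨_, ⟨DerivedCategory.Q.objObjPreimageIso X⟩⟩
  obtain ⟨I, f, hI, hf⟩ := HasKInj.out K
  let e' : DerivedCategory.Q.obj I ≅ X := (asIso (DerivedCategory.Q.map f)).symm ≪≫ e
  have h1 := isIso_uR_of_isKInjective G I hI
  have h2 := h I
  rw [cancel_epi] at h2
  rw [← cancel_epi ((TRD G).map e'.hom), γ₁.naturality, γ₂.naturality, h2]

end TRD

section bc

variable {A : Type u} [Category.{v} A] [Abelian A] [HasDerivedCategory.{w} A]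
  {B : Type u'} [Category.{v'} B] [Abelian B] [HasDerivedCategory.{w'} B]
  {A₂ : Type u''} [Category.{v''} A₂] [Abelian A₂] [HasDerivedCategory.{w''} A₂]
  {B₂ : Type u'''} [Category.{v'''} B₂] [Abelian B₂] [HasDerivedCategory.{w'''} B₂]
  {G : A ⥤ B} [G.Additive] {G₂ : A₂ ⥤ B₂} [G₂.Additive] {R : B₂ ⥤ B} [R.Additive]
  {E : A ⥤ A₂} [E.Additive] [PreservesFiniteLimits E] [PreservesFiniteColimits E]
  (α : G ⟶ E ⋙ G₂ ⋙ R)

/-- The transformation `α` on homotopy categories. -/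
def toH : G.mapHomotopyCategory (ComplexShape.up ℤ) ⟶
      E.mapHomotopyCategory (ComplexShape.up ℤ) ⋙ G₂.mapHomotopyCategory (ComplexShape.up ℤ) ⋙
          R.mapHomotopyCategory (ComplexShape.up ℤ) :=
  NatTrans.mapHomotopyCategory α (ComplexShape.up ℤ) ≫
    (Functor.mapHomotopyCategoryCompIso (Iso.refl (E ⋙ (G₂ ⋙ R))) (ComplexShape.up ℤ)).inv ≫
    Functor.whiskerLeft (E.mapHomotopyCategory (ComplexShape.up ℤ))
      (Functor.mapHomotopyCategoryCompIso (Iso.refl (G₂ ⋙ R)) (ComplexShape.up ℤ)).inv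

variable [HasTRD G] [HasTRD G₂] [HasTRD R]

/-- Generic form of `EtBC.bcUnit`. -/
def bcUnit : Kh G ⟶ DerivedCategory.Qh ⋙ (E.mapDerivedCategory ⋙ TRD G₂ ⋙ TRD R) :=
  Functor.whiskerRight (toH α) DerivedCategory.Qh ≫
    (Functor.associator _ _ _).hom ≫
    Functor.whiskerLeft (E.mapHomotopyCategory (ComplexShape.up ℤ))
      ((Functor.associator _ _ _).hom ≫
        Functor.whiskerLeft (G₂.mapHomotopyCategory (ComplexShape.up ℤ)) (uTRD R) ≫
        (Functor.associator _ _ _).inv ≫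
        Functor.whiskerRight (uTRD G₂) (TRD R) ≫
        (Functor.associator _ _ _).hom) ≫
    (Functor.associator _ _ _).inv ≫
    Functor.whiskerRight E.mapDerivedCategoryFactorsh.inv (TRD G₂ ⋙ TRD R) ≫
    (Functor.associator _ _ _).hom

/-- Generic form of `EtBC.bcAdj`. -/
def bcAdj : TRD G ⟶ E.mapDerivedCategory ⋙ TRD G₂ ⋙ TRD R :=
  (TRD G).rightDerivedDesc (uTRD G) (HomotopyCategory.quasiIso A (ComplexShape.up ℤ))
    (E.mapDerivedCategory ⋙ TRD G₂ ⋙ TRD R) (bcUnit α)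

/-- The transformation `α` on complexes. -/
@[simps! app_f]
def toCx : G.mapHomologicalComplex (.up ℤ) ⟶ E.mapHomologicalComplex (.up ℤ) ⋙
      G₂.mapHomologicalComplex (.up ℤ) ⋙ R.mapHomologicalComplex (.up ℤ) where
  app K := { f := fun i => α.app (K.X i)
             comm' := fun i j _ => (α.naturality (K.d i j)).symm }
  naturality := fun K L φ => by
    ext i
    exact α.naturality (φ.f i)

theorem toH_app (K : CochainComplex A ℤ) : (toH α).app ((HomotopyCategory.quotient A (.up ℤ)).obj K) =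
      (HomotopyCategory.quotient B (.up ℤ)).map ((toCx α).app K) := by
  have h1 : (NatTrans.mapHomologicalComplex α (ComplexShape.up ℤ)).app K ≫
      (Functor.mapHomologicalComplexCompIso (Iso.refl (E ⋙ (G₂ ⋙ R))) (ComplexShape.up ℤ)).inv.app K ≫
      (Functor.mapHomologicalComplexCompIso (Iso.refl (G₂ ⋙ R)) (ComplexShape.up ℤ)).inv.app
        ((E.mapHomologicalComplex (ComplexShape.up ℤ)).obj K) = (toCx α).app K := by
    ext i
    exact (congrArg (fun t => α.app (K.X i) ≫ t) (Category.comp_id _)).trans (Category.comp_id _)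
  rw [← h1]
  rfl

theorem chase_aux {D D₂ : Type*} [Category* D] [Category* D₂] (Rf : D₂ ⥤ D)
    {x0 x1 y0 y1 : D} (i : x0 ⟶ y0) (a : x0 ⟶ x1) (a' : y0 ⟶ y1) (i' : x1 ⟶ y1) (ha : i ≫ a' = a ≫ i')
    {z1 z2 z3 z4 : D₂} (u : y1 ⟶ Rf.obj z1) (v : z1 ⟶ z2) (q : z1 ⟶ z3) (w : z3 ⟶ z4)
    (j : z3 ⟶ z1) (hj : q ≫ j = 𝟙 _) (z : z2 ⟶ z4) (hz : j ≫ v ≫ z = w) :
    (i ≫ (a' ≫ u ≫ Rf.map v)) ≫ Rf.map z = a ≫ (i' ≫ u ≫ Rf.map q) ≫ Rf.map w := by
  subst hz
  simp only [Category.assoc, Functor.map_comp]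
  rw [reassoc_of% ha, ← Rf.map_comp_assoc q j, hj, Rf.map_id, Category.id_comp]

theorem bcUnit_app (K : CochainComplex A ℤ) :
    (bcUnit α).app ((HomotopyCategory.quotient A (.up ℤ)).obj K) =
      DerivedCategory.Qh.map ((HomotopyCategory.quotient B (.up ℤ)).map ((toCx α).app K)) ≫
      (uTRD R).app ((HomotopyCategory.quotient B₂ (.up ℤ)).obj
        ((G₂.mapHomologicalComplex (.up ℤ)).obj ((E.mapHomologicalComplex (.up ℤ)).obj K))) ≫
      (TRD R).map ((uTRD G₂).app ((HomotopyCategory.quotient A₂ (.up ℤ)).obj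
        ((E.mapHomologicalComplex (.up ℤ)).obj K))) ≫
      (TRD R).map ((TRD G₂).map (E.mapDerivedCategoryFactorsh.inv.app
        ((HomotopyCategory.quotient A (.up ℤ)).obj K))) := by
  rw [← toH_app]
  simp only [bcUnit, NatTrans.comp_app, Functor.whiskerRight_app, Functor.whiskerLeft_app,
    Functor.associator_hom_app, Functor.associator_inv_app, Category.id_comp, Category.comp_id]
  exact congrArg (fun t => _ ≫ t) (Category.assoc _ _ _)

theorem bcAdj_fac (K : CochainComplex A ℤ) :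
    (uTRD G).app ((HomotopyCategory.quotient A (.up ℤ)).obj K) ≫
      (bcAdj α).app (DerivedCategory.Qh.obj ((HomotopyCategory.quotient A (.up ℤ)).obj K)) =
    (bcUnit α).app ((HomotopyCategory.quotient A (.up ℤ)).obj K) :=
  Functor.rightDerived_fac_app (TRD G) (uTRD G) (HomotopyCategory.quasiIso A (ComplexShape.up ℤ))
    (E.mapDerivedCategory ⋙ TRD G₂ ⋙ TRD R) (bcUnit α) ((HomotopyCategory.quotient A (.up ℤ)).obj K)

/-- Auxiliary chase. -/
theorem fac_aux {D D₂ D₃ : Type*} [Category* D] [Category* D₂] [Category* D₃] (R : D₂ ⥤ D) (S : D₃ ⥤ D₂)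
    {q h t r : D} (i : q ⟶ h) (u : h ⟶ t) (j : t ⟶ r)
    {t' r' : D₃} (bt : t ⟶ R.obj (S.obj t')) (br : r ⟶ R.obj (S.obj r')) (m : t' ⟶ r')
    (hb : j ≫ br = bt ≫ R.map (S.map m))
    {c1 : D} (a1 : h ⟶ c1) {z0 z1 : D₂} {y0 y1 : D₃} (v1 : c1 ⟶ R.obj z1) (v2 : z1 ⟶ S.obj y1)
    (f' : y1 ⟶ t') (hu : u ≫ bt = a1 ≫ v1 ≫ R.map v2 ≫ R.map (S.map f'))
    {q1 : D} (a : q ⟶ q1) (i1 : q1 ⟶ c1) (hi : i ≫ a1 = a ≫ i1)
    (k1 : z1 ⟶ z0) (k2 : z0 ⟶ z1) (hk : k1 ≫ k2 = 𝟙 _)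
    (l1 : y1 ⟶ y0) (f : y0 ⟶ r') (hf : l1 ≫ f = f' ≫ m) :
    (i ≫ u ≫ j) ≫ br = a ≫ (i1 ≫ v1 ≫ R.map k1) ≫ R.map (k2 ≫ v2 ≫ S.map l1) ≫ R.map (S.map f) := by
  have h1 : R.map (S.map f') ≫ R.map (S.map m) = R.map (S.map l1) ≫ R.map (S.map f) := by
    rw [← R.map_comp, ← R.map_comp, ← S.map_comp, ← S.map_comp, hf]
  have h1 : R.map (S.map f') ≫ R.map (S.map m) = R.map (S.map l1) ≫ R.map (S.map f) := by
    rw [← R.map_comp, ← R.map_comp, ← S.map_comp, ← S.map_comp, hf]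
  simp only [Category.assoc, Functor.map_comp]
  rw [hb, reassoc_of% hu, reassoc_of% hi, ← R.map_comp_assoc k1 k2, hk, R.map_id, Category.id_comp, h1]

theorem inv_aux {D : Type*} [Category* D] {x0 x1 y0 y1 z0 : D} (h : x0 ≅ z0) (a : x0 ≅ x1) (f : x1 ≅ y1)
    (b : y0 ≅ y1) (i : y0 ⟶ z0) (e : h.hom = a.hom ≫ f.hom ≫ b.inv ≫ i)
    (j : z0 ⟶ y0) (hj : i ≫ j = 𝟙 _) (k : z0 ⟶ y1) (hk : k = j ≫ b.hom) : k ≫ f.inv = h.inv ≫ a.hom := by
  subst hk
  rw [← cancel_epi h.hom, h.hom_inv_id_assoc, e]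
  simp only [Category.assoc]
  rw [reassoc_of% hj]
  simp

theorem factorsh_inv (K : CochainComplex A ℤ) :
    (DerivedCategory.quotientCompQhIso A₂).hom.app ((E.mapHomologicalComplex (.up ℤ)).obj K) ≫
      E.mapDerivedCategoryFactors.inv.app K =
    E.mapDerivedCategoryFactorsh.inv.app ((HomotopyCategory.quotient A (.up ℤ)).obj K) ≫
      E.mapDerivedCategory.map ((DerivedCategory.quotientCompQhIso A).hom.app K) := by
  refine inv_aux (E.mapDerivedCategoryFactorsh.app ((HomotopyCategory.quotient A (.up ℤ)).obj K))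
    (E.mapDerivedCategory.mapIso ((DerivedCategory.quotientCompQhIso A).app K))
    (E.mapDerivedCategoryFactors.app K) ((DerivedCategory.quotientCompQhIso A₂).app _)
    (DerivedCategory.Qh.map ((E.mapHomotopyCategoryFactors (ComplexShape.up ℤ)).inv.app K))
    (E.mapDerivedCategoryFactorsh_hom_app K) (𝟙 _) ?_ _ (Category.id_comp _).symm
  exact (congrArg (fun t => t ≫ _) (DerivedCategory.Qh.map_id _)).trans (Category.id_comp _)

/-- The characterization of `bcAdj` on complexes. -/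
theorem uR_bcAdj (K : CochainComplex A ℤ) :
    uR G K ≫ (bcAdj α).app (DerivedCategory.Q.obj K) =
      DerivedCategory.Q.map ((toCx α).app K) ≫
      uR R ((G₂.mapHomologicalComplex (.up ℤ)).obj ((E.mapHomologicalComplex (.up ℤ)).obj K)) ≫
      (TRD R).map (uR G₂ ((E.mapHomologicalComplex (.up ℤ)).obj K)) ≫
      (TRD R).map ((TRD G₂).map (E.mapDerivedCategoryFactors.inv.app K)) := by
  refine fac_aux (TRD R) (TRD G₂) _ _ _
    ((bcAdj α).app (DerivedCategory.Qh.obj ((HomotopyCategory.quotient A (.up ℤ)).obj K))) _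
    (E.mapDerivedCategory.map ((DerivedCategory.quotientCompQhIso A).hom.app K))
    ((bcAdj α).naturality _) _ _ _ _ ((bcAdj_fac α K).trans (bcUnit_app α K)) _ _
    ((DerivedCategory.quotientCompQhIso B).inv.naturality ((toCx α).app K)).symm _ _
    ((DerivedCategory.quotientCompQhIso B₂).hom_inv_id_app _) _ _ (factorsh_inv K)

end bc

section transp

/-- Transposition of natural transformations, abstract form. -/
@[simps]
def transpGen {A B A₂ B₂ : Type*} [Category* A] [Category* B] [Category* A₂] [Category* B₂]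
    {G : A ⥤ B} {G' : A ⥤ B} {G₂ G₂' : A₂ ⥤ B₂} {R R' : B₂ ⥤ B} {E : A ⥤ A₂} {L : B ⥤ B₂}
    (a : G ⟶ G') (adj : L ⊣ R') (b : G' ⋙ L ⟶ E ⋙ G₂') (c : G₂' ⟶ G₂) (d : R' ⟶ R) :
    G ⟶ E ⋙ G₂ ⋙ R where
  app X := a.app X ≫ adj.unit.app (G'.obj X) ≫ R'.map (b.app X) ≫
    R'.map (c.app (E.obj X)) ≫ d.app (G₂.obj (E.obj X))
  naturality X Y f := by
    have h1 := a.naturality f
    have h2 := adj.unit.naturality (G'.map f)
    have h3 := b.naturality f
    have h4 := c.naturality (E.map f)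
    have h5 := d.naturality (G₂.map (E.map f))
    dsimp only [Functor.comp_map, Functor.comp_obj, Functor.id_map, Functor.id_obj] at h2 h3 ⊢
    rw [reassoc_of% h1, reassoc_of% h2, ← R'.map_comp_assoc, h3, R'.map_comp_assoc,
      ← R'.map_comp_assoc (G₂'.map (E.map f)), h4, R'.map_comp_assoc, h5]
    simp only [Category.assoc]

theorem homEquiv_symm_uniq {B B₂ : Type*} [Category* B] [Category* B₂] {L : B ⥤ B₂} {R : B₂ ⥤ B}
    (adj adj' : L ⊣ R) {X : B} {Y : B₂} (φ : X ⟶ R.obj Y) :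
    (adj.homEquiv _ _).symm φ = (adj.leftAdjointUniq adj').hom.app X ≫ (adj'.homEquiv _ _).symm φ := by
  rw [Adjunction.homEquiv_counit, Adjunction.homEquiv_counit, ← Adjunction.leftAdjointUniq_hom_app_counit adj adj' Y]
  exact (NatTrans.naturality_assoc _ _ _)

theorem homEquiv_symm_ofNatIsoRight {B B₂ : Type*} [Category* B] [Category* B₂] {L : B ⥤ B₂} {R R' : B₂ ⥤ B}
    (adj : L ⊣ R') (γ : R' ≅ R) {X : B} {Y : B₂} (φ : X ⟶ R'.obj Y) :
    ((adj.ofNatIsoRight γ).homEquiv _ _).symm (φ ≫ γ.hom.app Y) = (adj.homEquiv _ _).symm φ := by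
  rw [Equiv.symm_apply_eq, Adjunction.homEquiv_ofNatIsoRight_apply, Equiv.apply_symm_apply]

/-- The factorization for abstract functors. -/
theorem transpose_eq {A B A₂ B₂ : Type*} [Category* A] [Category* B] [Category* A₂] [Category* B₂]
    {G : A ⥤ B} {G' : A ⥤ B} {G₂ G₂' : A₂ ⥤ B₂} {R R' : B₂ ⥤ B} {E : A ⥤ A₂} {L : B ⥤ B₂}
    (a : G ≅ G') (adj : L ⊣ R') (b : G' ⋙ L ⟶ E ⋙ G₂') (c : G₂ ≅ G₂') (d : R ≅ R') (adj' : L ⊣ R) (X : A) :
    (adj'.homEquiv _ _).symm ((transpGen a.hom adj b c.inv d.inv).app X) =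
      (Functor.isoWhiskerLeft G (adj'.leftAdjointUniq (adj.ofNatIsoRight d.symm)) ≪≫
        Functor.isoWhiskerRight a L).hom.app X ≫ b.app X ≫ c.inv.app (E.obj X) := by
  have h1 : (transpGen a.hom adj b c.inv d.inv).app X =
      (adj.homEquiv _ _ (L.map (a.hom.app X) ≫ b.app X ≫ c.inv.app (E.obj X))) ≫ d.symm.hom.app _ := by
    rw [Adjunction.homEquiv_unit]
    simp
  rw [homEquiv_symm_uniq adj' (adj.ofNatIsoRight d.symm), h1]
  have h2 := homEquiv_symm_ofNatIsoRight adj d.symm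
    ((adj.homEquiv _ _ (L.map (a.hom.app X) ≫ b.app X ≫ c.inv.app (E.obj X))))
  rw [h2, Equiv.symm_apply_apply]
  simp

end transp

section factor

variable {A : Type u} [Category.{v} A] [Abelian A] [HasDerivedCategory.{w} A] [HasKInj A]
  {B : Type u'} [Category.{v'} B] [Abelian B] [HasDerivedCategory.{w'} B]
  {A₂ : Type u''} [Category.{v''} A₂] [Abelian A₂] [HasDerivedCategory.{w''} A₂] [HasKInj A₂]
  {B₂ : Type u'''} [Category.{v'''} B₂] [Abelian B₂] [HasDerivedCategory.{w'''} B₂] [HasKInj B₂]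
  {G : A ⥤ B} [G.Additive] {G₂ : A₂ ⥤ B₂} [G₂.Additive] {R : B₂ ⥤ B} [R.Additive]
  {E : A ⥤ A₂} [E.Additive] [PreservesFiniteLimits E] [PreservesFiniteColimits E]
  {L : B ⥤ B₂} [L.Additive] [PreservesFiniteLimits L] [PreservesFiniteColimits L]
  (adj₀ : L ⊣ R) (bc : G ⋙ L ⟶ E ⋙ G₂)
  [HasTRD G] [HasTRD G₂] [HasTRD R]

/-- The transpose of the derived base change transformation `bcD bc`. -/
def transp : TRD G ⟶ E.mapDerivedCategory ⋙ TRD G₂ ⋙ TRD R :=
  transpGen (TRIso G).hom (dAdj adj₀) (bcD bc) (TRIso G₂).inv (TRIso R).inv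

theorem transp_aux {D D₂ D₃ : Type*} [Category* D] [Category* D₂] [Category* D₃] {R' R : D₂ ⥤ D}
    (d : R' ⟶ R) {S' S : D₃ ⥤ D₂} (c : S' ⟶ S) {L : D ⥤ D₂} (η : 𝟭 D ⟶ L ⋙ R')
    {gK tG tG' : D} (uG : gK ⟶ tG) (a : tG ⟶ tG') (uG' : gK ⟶ tG') (h1 : uG ≫ a = uG')
    {eX ek : D₃} (b : L.obj tG' ⟶ S'.obj eX) {lgK g2ek : D₂} (fL : L.obj gK ⟶ lgK) (m : lgK ⟶ g2ek)
    (u2' : g2ek ⟶ S'.obj ek) (e : ek ⟶ eX) (h2 : L.map uG' ≫ b = fL ≫ m ≫ u2' ≫ S'.map e)
    {rlgK rg2ek : D} (n : gK ⟶ rlgK) (uL' : rlgK ⟶ R'.obj lgK) (h3 : η.app gK ≫ R'.map fL = n ≫ uL')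
    (rm : rlgK ⟶ rg2ek) (uM' : rg2ek ⟶ R'.obj g2ek) (h4 : uL' ≫ R'.map m = rm ≫ uM')
    (t : gK ⟶ rg2ek) (h5 : n ≫ rm = t) (u2 : g2ek ⟶ S.obj ek) (h6 : u2' ≫ c.app ek = u2)
    (uM : rg2ek ⟶ R.obj g2ek) (h7 : uM' ≫ d.app g2ek = uM) :
    uG ≫ a ≫ η.app tG' ≫ R'.map b ≫ R'.map (c.app eX) ≫ d.app (S.obj eX) =
      t ≫ uM ≫ R.map u2 ≫ R.map (S.map e) := by
  have e1 := η.naturality uG'
  have e2 := c.naturality e
  have e3 := d.naturality u2
  have e4 := d.naturality (S.map e)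
  dsimp only [Functor.id_map, Functor.comp_map, Functor.id_obj, Functor.comp_obj] at e1
  rw [reassoc_of% h1, reassoc_of% e1, ← R'.map_comp_assoc, h2]
  simp only [Functor.map_comp, Category.assoc]
  rw [reassoc_of% h3, reassoc_of% h4, reassoc_of% h5, ← R'.map_comp_assoc (S'.map e), e2, R'.map_comp,
    Category.assoc, ← R'.map_comp_assoc u2', h6, e4, reassoc_of% e3, reassoc_of% h7]

theorem unitQ_TRIso_inv {A : Type u} [Category.{v} A] [Abelian A] [HasDerivedCategory.{w} A] [HasKInj A]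
    {B : Type u'} [Category.{v'} B] [Abelian B] [HasDerivedCategory.{w'} B] (G : A ⥤ B) [G.Additive] [HasTRD G]
    (K : CochainComplex A ℤ) :
    (unitQ G).app K ≫ (TRIso G).inv.app (DerivedCategory.Q.obj K) = uR G K := by
  rw [← uR_TRIso, Category.assoc, Iso.hom_inv_id_app]
  exact Category.comp_id _

theorem bcAdj_eq_transp (α : G ⟶ E ⋙ G₂ ⋙ R)
    (hα : ∀ X, adj₀.unit.app (G.obj X) ≫ R.map (bc.app X) = α.app X) :
    bcAdj α = transp adj₀ bc := by
  refine hom_ext_uR' G fun K => ?_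
  rw [uR_bcAdj]
  symm
  refine transp_aux (TRIso R).inv (TRIso G₂).inv (dAdj adj₀).unit (uR G K) ((TRIso G).hom.app _)
    ((unitQ G).app K) (uR_TRIso G K) ((bcD bc).app (DerivedCategory.Q.obj K)) _ _ _ _ (bcD_fac bc K) _ _
    (dAdj_unit adj₀ _) (DerivedCategory.Q.map ((R.mapHomologicalComplex (.up ℤ)).map ((bcCx bc).app K)))
    ((unitQ R).app _) ((unitQ R).naturality ((bcCx bc).app K)).symm _ ?_ _ (unitQ_TRIso_inv G₂ _) _
    (unitQ_TRIso_inv R _)
  rw [← Functor.map_comp]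
  congr 1
  ext i
  exact hα (K.X i)

/-- The abstract derived base change morphism: generic form of `EtBC.bcMap`. -/
def bcMap (α : G ⟶ E ⋙ G₂ ⋙ R) (adj : L.mapDerivedCategory ⊣ TRD R) (K : DerivedCategory A) :
    L.mapDerivedCategory.obj ((TRD G).obj K) ⟶ (TRD G₂).obj (E.mapDerivedCategory.obj K) :=
  (adj.homEquiv _ _).symm ((bcAdj α).app K)

/-- The comparison isomorphism of `bcMap_eq`. -/
def theta (adj : L.mapDerivedCategory ⊣ TRD R) :
    TRD G ⋙ L.mapDerivedCategory ≅ TR G ⋙ L.mapDerivedCategory :=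
  Functor.isoWhiskerLeft (TRD G) (adj.leftAdjointUniq ((dAdj adj₀).ofNatIsoRight (TRIso R).symm)) ≪≫
        Functor.isoWhiskerRight (TRIso G) L.mapDerivedCategory

/-- The factorization of the derived base change morphism. -/
theorem bcMap_eq (α : G ⟶ E ⋙ G₂ ⋙ R)
    (hα : ∀ X, adj₀.unit.app (G.obj X) ≫ R.map (bc.app X) = α.app X)
    (adj : L.mapDerivedCategory ⊣ TRD R) (K : DerivedCategory A) :
    bcMap α adj K = (theta (G := G) adj₀ adj).hom.app K ≫ (bcD bc).app K ≫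
      (TRIso G₂).inv.app (E.mapDerivedCategory.obj K) := by
  rw [bcMap, bcAdj_eq_transp adj₀ bc α hα]
  exact transpose_eq (TRIso G) (dAdj adj₀) (bcD bc) (TRIso G₂) (TRIso R) adj K

end factor

end Groth.Agent.Etbc.H180.BcAbs
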