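import Groth.Agent.Etbc.H180.BcAbs
import Groth.Agent.Etrest.DEtPush
import Groth.Prelude.Def_EtBCD

/-!
# `EtBC.bcMap` and the canonical derived base change transformation `bcEt`

For a commutative square `w : g' ≫ f = f' ≫ g` and ANY adjunction `adj : g⁻¹ ⊣ Rg_*`:
* `bcMap_eq`: `EtBC.bcMap f g f' g' w adj K = (theta f g adj).hom.app K ≫ (bcEt w).app K ≫ (rpushIso f').inv.app _`
  with `theta f g adj` a natural isomorphism.
* `isIso_bcMap_iff`, `isIso_homology_bcMap_iff`, `mono_homology_bcMap_iff`, `epi_homology_bcMap_iff`.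
* `bcMap_naturality`, `isIso_bcMap_of_iso`.
* `isIso_bcMap_Q_of_isAcyc`: the criterion with bounded below complexes of acyclic sheaves.
-/

set_option autoImplicit false
universe u

open CategoryTheory CategoryTheory.Limits Opposite AlgebraicGeometry

attribute [local instance] HasDerivedCategory.standard

noncomputable section
namespace Groth.Agent.Etbc.H180.BcMap

open Groth.Agent.Etrest.RDer2 Groth.Agent.Etrest.RDer3 Groth.Agent.Etrest.RDer4
  Groth.Agent.Etrest.DEtPush Groth.Agent.EtpbcB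

variable {X Y X' Y' : Scheme.{u}} (f : X ⟶ Y) (g : Y' ⟶ Y) (f' : X' ⟶ Y') (g' : X' ⟶ X)
  (w : g' ≫ f = f' ≫ g)

theorem pushToPushPull_app (F : EtCoh.Ab X) :
    (EtCoh.pullPushAdj g).unit.app ((EtCoh.push f).obj F) ≫ (EtCoh.push g).map ((BCCalc.bcNat w).app F) =
      (EtBC.pushToPushPull f g f' g' w).app F := by
  rw [BCCalc.bcNat_app, BCCalc.unit_baseChange0]
  simp only [EtBC.pushToPushPull, BCCalc.sq, NatTrans.comp_app, Functor.whiskerRight_app,
    Functor.whiskerLeft_app, Functor.associator_hom_app, Functor.leftUnitor_inv_app, Category.id_comp,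
    Iso.trans_hom, Iso.symm_hom]

variable [PreservesFiniteLimits (EtCoh.pull g)] [PreservesFiniteLimits (EtCoh.pull g')]
  [DCoh.HasRpushEt X f] [DCoh.HasRpushEt X' f'] [DCoh.HasRpushEt Y' g]

/-- The comparison isomorphism. -/
def theta (adj : EtBC.pullD g ⊣ DCoh.RpushEt Y' g) :
    DCoh.RpushEt X f ⋙ EtBC.pullD g ≅ TR (EtCoh.push f) ⋙ EtBC.pullD g :=
  BcAbs.theta (G := EtCoh.push f) (EtCoh.pullPushAdj g) adj

/-- The base change morphism of the prelude, for any adjunction, is `bcEt` up to isomorphisms. -/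
theorem bcMap_eq (adj : EtBC.pullD g ⊣ DCoh.RpushEt Y' g) (K : DCoh.DEt X) :
    EtBC.bcMap f g f' g' w adj K = (theta f g adj).hom.app K ≫ (bcEt w).app K ≫
      (rpushIso f').inv.app ((EtBC.pullD g').obj K) :=
  BcAbs.bcMap_eq (EtCoh.pullPushAdj g) (BCCalc.bcNat w) (EtBC.pushToPushPull f g f' g' w)
    (pushToPushPull_app f g f' g' w) adj K

theorem iso_aux {C : Type*} [Category* C] {a b c d : C} (e : a ⟶ b) [IsIso e] (x : b ⟶ c) (e' : c ⟶ d)
    [IsIso e'] : (IsIso (e ≫ x ≫ e') ↔ IsIso x) ∧ (Mono (e ≫ x ≫ e') ↔ Mono x) ∧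
      (Epi (e ≫ x ≫ e') ↔ Epi x) := by
  have h : inv e ≫ (e ≫ x ≫ e') ≫ inv e' = x := by simp
  refine ⟨⟨fun _ => ?_, fun _ => inferInstance⟩, ⟨fun _ => ?_, fun _ => inferInstance⟩,
    ⟨fun _ => ?_, fun _ => inferInstance⟩⟩
  · rw [← h]; infer_instance
  · rw [← h]; infer_instance
  · rw [← h]; infer_instance

variable (adj : EtBC.pullD g ⊣ DCoh.RpushEt Y' g) (K : DCoh.DEt X)

theorem isIso_bcMap_iff : IsIso (EtBC.bcMap f g f' g' w adj K) ↔ IsIso ((bcEt w).app K) := by
  rw [bcMap_eq]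
  exact (iso_aux _ _ _).1

section functor
variable {C : Type*} [Category* C] (H : DCoh.DEt Y' ⥤ C)

theorem map_bcMap_eq : H.map (EtBC.bcMap f g f' g' w adj K) =
    H.map ((theta f g adj).hom.app K) ≫ H.map ((bcEt w).app K) ≫
      H.map ((rpushIso f').inv.app ((EtBC.pullD g').obj K)) := by
  rw [bcMap_eq, H.map_comp, H.map_comp]

theorem isIso_map_bcMap_iff :
    IsIso (H.map (EtBC.bcMap f g f' g' w adj K)) ↔ IsIso (H.map ((bcEt w).app K)) := by
  rw [map_bcMap_eq]
  exact (iso_aux _ _ _).1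

theorem mono_map_bcMap_iff :
    Mono (H.map (EtBC.bcMap f g f' g' w adj K)) ↔ Mono (H.map ((bcEt w).app K)) := by
  rw [map_bcMap_eq]
  exact (iso_aux _ _ _).2.1

theorem epi_map_bcMap_iff :
    Epi (H.map (EtBC.bcMap f g f' g' w adj K)) ↔ Epi (H.map ((bcEt w).app K)) := by
  rw [map_bcMap_eq]
  exact (iso_aux _ _ _).2.2

end functor

/-- On cohomology sheaves: isomorphisms. -/
theorem isIso_homology_bcMap_iff (q : ℤ) :
    IsIso ((DerivedCategory.homologyFunctor (EtCoh.Ab Y') q).map (EtBC.bcMap f g f' g' w adj K)) ↔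
      IsIso ((DerivedCategory.homologyFunctor (EtCoh.Ab Y') q).map ((bcEt w).app K)) :=
  isIso_map_bcMap_iff f g f' g' w adj K _

/-- On cohomology sheaves: monomorphisms. -/
theorem mono_homology_bcMap_iff (q : ℤ) :
    Mono ((DerivedCategory.homologyFunctor (EtCoh.Ab Y') q).map (EtBC.bcMap f g f' g' w adj K)) ↔
      Mono ((DerivedCategory.homologyFunctor (EtCoh.Ab Y') q).map ((bcEt w).app K)) :=
  mono_map_bcMap_iff f g f' g' w adj K _

/-- On cohomology sheaves: epimorphisms. -/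
theorem epi_homology_bcMap_iff (q : ℤ) :
    Epi ((DerivedCategory.homologyFunctor (EtCoh.Ab Y') q).map (EtBC.bcMap f g f' g' w adj K)) ↔
      Epi ((DerivedCategory.homologyFunctor (EtCoh.Ab Y') q).map ((bcEt w).app K)) :=
  epi_map_bcMap_iff f g f' g' w adj K _

/-- Naturality of the base change morphism. -/
@[reassoc]
theorem bcMap_naturality {K L : DCoh.DEt X} (φ : K ⟶ L) :
    (EtBC.pullD g).map ((DCoh.RpushEt X f).map φ) ≫ EtBC.bcMap f g f' g' w adj L =
      EtBC.bcMap f g f' g' w adj K ≫ (DCoh.RpushEt X' f').map ((EtBC.pullD g').map φ) := by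
  have h1 := (theta f g adj).hom.naturality φ
  have h2 := (bcEt w).naturality φ
  have h3 := (rpushIso f').inv.naturality ((EtBC.pullD g').map φ)
  rw [bcMap_eq, bcMap_eq]
  simp only [Category.assoc]
  dsimp only [Functor.comp_map, Functor.comp_obj] at h1 h2 h3 ⊢
  rw [reassoc_of% h1]
  erw [reassoc_of% h2]
  rw [h3]

/-- Independence of the adjunction. -/
theorem isIso_bcMap_congr (adj' : EtBC.pullD g ⊣ DCoh.RpushEt Y' g) :
    IsIso (EtBC.bcMap f g f' g' w adj K) ↔ IsIso (EtBC.bcMap f g f' g' w adj' K) := by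
  rw [isIso_bcMap_iff, isIso_bcMap_iff]

theorem isIso_bcMap_of_iso {K L : DCoh.DEt X} (e : K ≅ L) (h : IsIso (EtBC.bcMap f g f' g' w adj K)) :
    IsIso (EtBC.bcMap f g f' g' w adj L) := by
  rw [isIso_bcMap_iff] at h ⊢
  exact isIso_bcD_of_iso _ e h

/-- `bcMap` is an isomorphism at bounded below complexes `T` of `f_*`-acyclic sheaves, with `g'⁻¹ T` a complex
of `f'_*`-acyclic sheaves, for which the degree zero base change morphisms are isomorphisms. -/
theorem isIso_bcMap_Q_of_isAcyc (T : CochainComplex (EtCoh.Ab X) ℤ) (a : ℤ) [T.IsStrictlyGE a]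
    (hT : ∀ i, IsAcyc (EtCoh.push f) (T.X i)) (hT₂ : ∀ i, IsAcyc (EtCoh.push f') ((EtCoh.pull g').obj (T.X i)))
    (h : ∀ i, IsIso (EtCoh.baseChange0 f g f' g' w (T.X i))) :
    IsIso (EtBC.bcMap f g f' g' w adj (DerivedCategory.Q.obj T)) := by
  rw [isIso_bcMap_iff]
  exact isIso_bcD_Q_of_isAcyc _ T a hT hT₂ h

end Groth.Agent.Etbc.H180.BcMap
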