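import Groth.Agent.Etrest.TorsEt
import Groth.Prelude.Def_EtBCD
import Mathlib.Algebra.Homology.DerivedCategory.FullyFaithful
import Mathlib.Algebra.Homology.DerivedCategory.TStructure

/-!
# The complex with a single torsion sheaf in degree zero

`isZero_HDEt_single`: `H^n(F[0]) = 0` for `n ≠ 0`; `HDEt_single_zero`: `H^0(F[0]) ≅ F`;
`isTorsion_HDEt_single`: the cohomology sheaves of `F[0]` are torsion if `F` is.
-/

set_option autoImplicit false
universe u

open CategoryTheory CategoryTheory.Limits Opposite AlgebraicGeometry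

attribute [local instance] HasDerivedCategory.standard

noncomputable section
namespace Groth.Agent.Etbc.H180.SingleTors

variable {X : Scheme.{u}} (F : EtCoh.Ab X)

theorem isZero_HDEt_single (n : ℤ) (hn : n ≠ 0) : IsZero (DCoh.HDEt (EtBC.single X F) n) := by
  rcases lt_or_gt_of_ne hn with h | h
  · exact (EtBC.single X F).isZero_of_isGE 0 n h
  · exact (EtBC.single X F).isZero_of_isLE 0 n h

/-- `H^0(F[0]) ≅ F`. -/
def HDEt_single_zero : DCoh.HDEt (EtBC.single X F) 0 ≅ F :=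
  (DerivedCategory.singleFunctorCompHomologyFunctorIso (EtCoh.Ab X) 0).app F

theorem isZero_of_neg : ∃ a : ℤ, ∀ n : ℤ, n < a → IsZero (DCoh.HDEt (EtBC.single X F) n) :=
  ⟨0, fun n hn => isZero_HDEt_single F n hn.ne⟩

theorem isTorsion_of_isZero {G : EtCoh.Ab X} (h : IsZero G) : EtCoh.IsTorsion G := by
  have hm : Mono (0 : G ⟶ G) := ⟨fun a b _ => h.eq_of_tgt a b⟩
  intro U s x
  refine ⟨U, 𝟙 U, ⟨x, rfl⟩, ?_⟩
  have h0 : (𝟙 G : G ⟶ G) = 0 := h.eq_of_src _ _
  have h1 : ((𝟙 G : G ⟶ G).hom.app (op U)).hom s = ((0 : G ⟶ G).hom.app (op U)).hom s := by rw [h0]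
  have h2 : s = 0 := h1
  rw [h2, map_zero]
  exact isOfFinAddOrder_iff_nsmul_eq_zero.2 ⟨1, one_pos, by simp⟩

theorem isTorsion_HDEt_single (hF : EtCoh.IsTorsion F) (n : ℤ) :
    EtCoh.IsTorsion (DCoh.HDEt (EtBC.single X F) n) := by
  by_cases hn : n = 0
  · subst hn
    exact Etrest.TorsEt.isTorsion_of_iso (HDEt_single_zero F).symm hF
  · exact isTorsion_of_isZero (isZero_HDEt_single F n hn)

end Groth.Agent.Etbc.H180.SingleTors
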